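import Cfsg.Agent.H992.Stages.LFive
import Cfsg.Agent.OddHalf.D4.Spor.M2223
import Cfsg.Agent.OddHalf.Small.Mathieu
import Cfsg.Agent.SporadicStructure.M23Index253
import Cfsg.Agent.SporadicStructure.MonoCounts
import Cfsg.Agent.Lib.ModFour
import Cfsg.Agent.S0363
import Cfsg.Agent.CoThreeStd.MTwelveCent
import Cfsg.Agent.FastGrp
import Cfsg.Agent.Prune
set_option linter.all false
prune_inst 0x7f00000000000000000000000000000000000000000000000000000000000000000000000000000000000000000000000000000000000000000000000000000000000000000000000000000000000000003fffffffffffffffffffffffffffbeffbdffffffff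
open scoped Cfsg.Agent.FastGrp

/-!
# The orders of the involution centralizers of `M₂₂` and `M₂₃` (helper992)

* `card_cent_m23` : 2688; `card_cent_m22` : 384 (every involution fixes exactly an octad, and the involutions form one
  class);
* `m12_five` : `M₁₂` (hence `M₂₄`) has an involution that commutes with an element of order 5.
-/

set_option autoImplicit false

open scoped Pointwise

namespace Cfsg.Agent.H992.Stages

open Subgroup Cfsg
open Cfsg.Agent.SporadicA.GolayBase Cfsg.Agent.SporadicA.GolayPerm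
open Cfsg.Agent.SporadicA.OctadStab Cfsg.Agent.SporadicA.OctadFix
open Cfsg.Agent.OddHalf.Small.Mathieu (exists_fix_octad)

/-- a non-trivial element of `fixOct o` fixes exactly the points of `o` -/
theorem fix_iff {o : Finset GolayPt} (ho : o ∈ octads) {g : Equiv.Perm GolayPt} (hg : g ∈ fixOct o) (h1 : g ≠ 1)
    (x : GolayPt) : g x = x ↔ x ∈ o := by
  refine ⟨fun hx => ?_, fun hx => (mem_fixOct.1 hg).2 x hx⟩
  by_contra hxo
  exact h1 ((existsUnique_fixOct ho hxo hxo).unique ⟨hg, hx⟩ ⟨one_mem _, rfl⟩)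

theorem card_ne_one {o : Finset GolayPt} (ho : o ∈ octads) : Nat.card {g : fixOct o // g ≠ 1} = 15 := by
  classical
  have hf : Finite (fixOct o) := Nat.finite_of_card_ne_zero (by rw [card_fixOct ho]; norm_num)
  have : Fintype (fixOct o) := Fintype.ofFinite _
  have h1 : Fintype.card (fixOct o) = 16 := by rw [← Nat.card_eq_fintype_card, card_fixOct ho]
  rw [Nat.card_eq_fintype_card, Fintype.card_subtype_compl, Fintype.card_subtype_eq, h1]

/-- **The number of involutions.** -/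
theorem card_inv {H : Subgroup (Equiv.Perm GolayPt)} (hM : H ≤ M24) (A : Set (Finset GolayPt))
    (hA : ∀ o ∈ A, o ∈ octads ∧ fixOct o ≤ H)
    (hH : ∀ t : H, t * t = 1 → t ≠ 1 → ∃ o ∈ A, ∀ x, (t : Equiv.Perm GolayPt) x = x ↔ x ∈ o) :
    Nat.card {t : H // t * t = 1 ∧ t ≠ 1} = A.ncard * 15 := by
  have hx : ∀ (o : A) (g : fixOct o.1), g ≠ 1 → (g : Equiv.Perm GolayPt) ≠ 1 := fun o g hg h => hg (Subtype.ext h)
  let f : (Σ o : A, {g : fixOct o.1 // g ≠ 1}) → {t : H // t * t = 1 ∧ t ≠ 1} := fun p =>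
    ⟨⟨(p.2.1 : Equiv.Perm GolayPt), (hA p.1 p.1.2).2 p.2.1.2⟩,
      Subtype.ext (fixOct_sq (hA p.1 p.1.2).1 p.2.1.2), fun h => hx p.1 p.2.1 p.2.2 (congrArg Subtype.val h)⟩
  have hf : Function.Bijective f := by
    constructor
    · rintro ⟨⟨o, ho⟩, ⟨⟨g, hg⟩, hg1⟩⟩ ⟨⟨o', ho'⟩, ⟨⟨g', hg'⟩, hg1'⟩⟩ h
      have e : g = g' := congrArg (fun t : {t : H // t * t = 1 ∧ t ≠ 1} => ((t : H) : Equiv.Perm GolayPt)) h
      subst e
      have e2 : o = o' := by
        ext x
        rw [← fix_iff (hA o ho).1 hg (hx ⟨o, ho⟩ _ hg1), ← fix_iff (hA o' ho').1 hg' (hx ⟨o', ho'⟩ _ hg1')]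
      subst e2
      rfl
    · rintro ⟨t, ht, ht1⟩
      obtain ⟨o, ho, hto⟩ := hH t ht ht1
      refine ⟨⟨⟨o, ho⟩, ⟨⟨(t : Equiv.Perm GolayPt), mem_fixOct.2 ⟨hM t.2, fun x hx => (hto x).2 hx⟩⟩, fun h => ?_⟩⟩, rfl⟩
      have h' : (t : Equiv.Perm GolayPt) = 1 := congrArg Subtype.val h
      exact ht1 (Subtype.ext h')
  have e2 : (Σ o : A, {g : fixOct o.1 // g ≠ 1}) ≃ A × Fin 15 := by
    have hfin : ∀ o : A, Finite {g : fixOct o.1 // g ≠ 1} := fun o =>
      Nat.finite_of_card_ne_zero (by rw [card_ne_one (hA o.1 o.property).1]; norm_num)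
    have e3 : ∀ o : A, {g : fixOct o.1 // g ≠ 1} ≃ Fin 15 := fun o =>
      Finite.equivFinOfCardEq (card_ne_one (hA o.1 o.property).1)
    exact (Equiv.sigmaCongrRight e3).trans (Equiv.sigmaEquivProd _ _)
  rw [← Nat.card_congr (Equiv.ofBijective f hf), Nat.card_congr e2, Nat.card_prod, Nat.card_coe_set_eq, Nat.card_fin]

/-- one class of involutions: the order of the centralizer -/
theorem card_cent_mul {G : Type*} [Group G] {n : ℕ} (hcls : ∀ s t : G, s * s = 1 → s ≠ 1 → t * t = 1 → t ≠ 1 → IsConj s t)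
    (hn : Nat.card {t : G // t * t = 1 ∧ t ≠ 1} = n) {t : G} (ht : orderOf t = 2) :
    Nat.card ↥(centralizer ({t} : Set G)) * n = Nat.card G := by
  obtain ⟨h2, h1⟩ := OddHalf.Small.Mathieu.sq_of_order ht
  have e : Nat.card {y : G // IsConj t y} = n := by
    rw [← hn]
    refine Nat.card_congr (Equiv.subtypeEquivRight fun y => ⟨fun h => ?_, fun h => hcls t y h2 h1 h.1 h.2⟩)
    obtain ⟨c, rfl⟩ := isConj_iff.1 h
    constructor
    · calc c * t * c⁻¹ * (c * t * c⁻¹) = c * (t * t) * c⁻¹ := by group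
        _ = 1 := by rw [h2]; group
    · intro h3
      apply h1
      calc t = c⁻¹ * (c * t * c⁻¹) * c := by group
        _ = 1 := by rw [h3]; group
  rw [Lib.ModFour.card_isConj] at e
  rw [← e]
  exact card_mul_index _

open OddHalf.D4.Spor.M2223 OddHalf.D4.Spor.MathieuSyl in
theorem card_cent_m23 {t : Spor.M23} (ht : orderOf t = 2) : Nat.card ↥(centralizer ({t} : Set Spor.M23)) = 2688 := by
  have hS : IsSteinerSystem 5 8 octads := S0363.result
  have hfin := finite23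
  have h := card_cent_mul (G := Spor.M23) (fun s t hs hs1 ht ht1 => by
      obtain ⟨g, hg⟩ := OddHalf.D4.Spor.MathieuSyl.one_class T_le23 idx23 M22_le_M23 s hs hs1
      obtain ⟨k, hk⟩ := OddHalf.D4.Spor.MathieuSyl.one_class T_le23 idx23 M22_le_M23 t ht ht1
      exact (isConj_iff.2 ⟨g, hg⟩).symm.trans (isConj_iff.2 ⟨k, hk⟩))
    (card_inv (H := Spor.M23) inf_le_left {o | o ∈ octads ∧ none ∈ o} (fun o ho => ⟨ho.1, fun q hq => by
        rw [mem_fixOct] at hq
        exact ⟨hq.1, hq.2 _ ho.2⟩⟩) (fun t h2 h1 => by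
      have hfix : (t : Equiv.Perm GolayPt) none = none := t.2.2
      obtain ⟨o, ho, hto⟩ := exists_fix_octad (t := (t : Equiv.Perm GolayPt)) t.2.1 (congrArg Subtype.val h2)
        (fun e => h1 (Subtype.ext e)) hfix
      exact ⟨o, ⟨ho, (hto _).1 hfix⟩, hto⟩)) ht
  rw [SporadicStructure.M23Index253.ncard_octads_through hS, SporadicA.MathieuRecog.card_M23] at h
  omega

open OddHalf.D4.Spor.M2223 OddHalf.D4.Spor.MathieuSyl Schreier.SylMTwentyTwo in
theorem card_cent_m22 {t : Spor.M22} (ht : orderOf t = 2) : Nat.card ↥(centralizer ({t} : Set Spor.M22)) = 384 := by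
  have hfin := finite22
  have h := card_cent_mul (G := Spor.M22) (fun s t hs hs1 ht ht1 => by
      obtain ⟨g, hg⟩ := OddHalf.D4.Spor.MathieuSyl.one_class T_le idx22 le_rfl s hs hs1
      obtain ⟨k, hk⟩ := OddHalf.D4.Spor.MathieuSyl.one_class T_le idx22 le_rfl t ht ht1
      exact (isConj_iff.2 ⟨g, hg⟩).symm.trans (isConj_iff.2 ⟨k, hk⟩))
    (card_inv (H := Spor.M22) (inf_le_left.trans inf_le_left) {o | o ∈ octads ∧ (none ∈ o ∧ some 0 ∈ o)}
      (fun o ho => ⟨ho.1, fun q hq => by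
        rw [mem_fixOct] at hq
        exact ⟨⟨hq.1, hq.2 _ ho.2.1⟩, hq.2 _ ho.2.2⟩⟩) (fun t h2 h1 => by
      have hfix : (t : Equiv.Perm GolayPt) none = none := t.2.1.2
      have hfix0 : (t : Equiv.Perm GolayPt) (some 0) = some 0 := t.2.2
      obtain ⟨o, ho, hto⟩ := exists_fix_octad (t := (t : Equiv.Perm GolayPt)) t.2.1.1 (congrArg Subtype.val h2)
        (fun e => h1 (Subtype.ext e)) hfix
      exact ⟨o, ⟨ho, (hto _).1 hfix, (hto _).1 hfix0⟩, hto⟩)) ht
  rw [SporadicStructure.MonoCounts.ncard_octads_in, SporadicA.MathieuRecog.card_M22] at h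
  omega

/-- `M₂₃` has involutions -/
theorem exists_inv_m23 : ∃ t : Spor.M23, orderOf t = 2 := by
  have := OddHalf.D4.Spor.M2223.finite23
  have : Fact (Nat.Prime 2) := ⟨Nat.prime_two⟩
  exact exists_prime_orderOf_dvd_card' 2 (by rw [SporadicA.MathieuRecog.card_M23]; norm_num)

theorem exists_inv_m22 : ∃ t : Spor.M22, orderOf t = 2 := by
  have := OddHalf.D4.Spor.M2223.finite22
  have : Fact (Nat.Prime 2) := ⟨Nat.prime_two⟩
  exact exists_prime_orderOf_dvd_card' 2 (by rw [SporadicA.MathieuRecog.card_M22]; norm_num)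

theorem m23_iff (n : ℕ) : CentDvd n Spor.M23 ↔ n ∣ 2688 := by
  constructor
  · rintro ⟨t, ht, h⟩
    rwa [card_cent_m23 ht] at h
  · intro h
    obtain ⟨t, ht⟩ := exists_inv_m23
    exact ⟨t, ht, by rwa [card_cent_m23 ht]⟩

theorem m22_iff (n : ℕ) : CentDvd n Spor.M22 ↔ n ∣ 384 := by
  constructor
  · rintro ⟨t, ht, h⟩
    rwa [card_cent_m22 ht] at h
  · intro h
    obtain ⟨t, ht⟩ := exists_inv_m22
    exact ⟨t, ht, by rwa [card_cent_m22 ht]⟩

/-! ### `M₂₄` -/

theorem m24_seven : CentDvd 7 ↥Cfsg.M24 :=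
  CentDvd.of_injective (Subgroup.inclusion (inf_le_left : Spor.M23 ≤ Cfsg.M24))
    (Subgroup.inclusion_injective _) ((m23_iff 7).2 (by norm_num))

open CoThreeStd.MTwelve in
theorem m12_five : CentDvd 5 ↥Spor.M12 := by
  have h5 : wd [1, 2, 3, 4] ^ 5 = 1 := by
    have e : wd [1, 2, 3, 4] ^ 5 = wd ([1, 2, 3, 4] ++ ([1, 2, 3, 4] ++ ([1, 2, 3, 4] ++ ([1, 2, 3, 4] ++ [1, 2, 3, 4])))) := by
      rw [wd_append, wd_append, wd_append, wd_append]
      simp only [pow_succ, pow_zero, one_mul, mul_assoc]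
    rw [e, ← wd_nil]
    exact wd_eq (by decide +kernel)
  have h1 : wd [1, 2, 3, 4] ≠ 1 := by
    rw [← wd_nil]
    exact wd_ne 0 (by norm_num) (by decide +kernel)
  have hy : orderOf y = 2 := orderOf_eq_prime (by rw [pow_two]; exact y_sq) y_ne_one
  have hc : wd [1, 2, 3, 4] * y = y * wd [1, 2, 3, 4] := by
    have e1 : y = wd [0] := by simp [wd, gen]
    rw [e1, ← wd_append, ← wd_append]
    exact wd_eq (by decide +kernel)
  have : Fact (Nat.Prime 5) := ⟨by norm_num⟩
  have h := CentDvd.of_le hy (K := Subgroup.zpowers (wd [1, 2, 3, 4]))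
    (Subgroup.zpowers_le.2 (mem_centralizer_singleton_iff.2 hc))
  rwa [Nat.card_zpowers, orderOf_eq_prime h5 h1] at h

theorem m24_five : CentDvd 5 ↥Cfsg.M24 :=
  CentDvd.of_injective (Subgroup.inclusion (inf_le_left : Spor.M12 ≤ Cfsg.M24))
    (Subgroup.inclusion_injective _) m12_five

end Cfsg.Agent.H992.Stages
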