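import Cfsg.Prelude.Def_ClassificationStages
import Cfsg.Agent.CpAut.TwoFrame
import Mathlib
import Cfsg.Agent.FastGrp
import Cfsg.Agent.Prune
set_option linter.all false

section
prune_inst 0x7f00000000000000000000000000000000000000000000000000000000000000000000000000000000000000000000000000000000000000000000000000000000000000000000000000000000000000003fffffffffffffffffffffffffffbeffbdffffffff

-- part: H992/Stages/Pattern
section
set_option linter.all false
open scoped Cfsg.Agent.FastGrp

/-!
# Consequences of `SameCentralizerInvolutionPattern`, `SameInvolutionFusionPattern`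

* `exists_centralizer` : every involution centralizer of `H` is isomorphic to one of `G`;
* `symm`, `congr`;
* `pow_dvd_iff` : `2 ^ k ∣ |G| ↔ 2 ^ k ∣ |H|`;
* `toFusion` : a centralizer pattern is a fusion pattern; `fusion_refl`, `fusion_of_equiv`.
-/

set_option autoImplicit false

namespace Cfsg.Agent.H992.Stages

open Cfsg

universe u v w

/-- conjugate elements have isomorphic centralizers -/
theorem centralizer_congr {G : Type*} [Group G] {a b : G} (h : IsConj a b) :
    Nonempty (↥(Subgroup.centralizer ({a} : Set G)) ≃* ↥(Subgroup.centralizer ({b} : Set G))) := by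
  obtain ⟨g, rfl⟩ := isConj_iff.1 h
  have e : (Subgroup.centralizer ({a} : Set G)).map (MulAut.conj g).toMonoidHom =
      Subgroup.centralizer ({g * a * g⁻¹} : Set G) := by
    ext x
    rw [Subgroup.mem_centralizer_singleton_iff]
    constructor
    · rintro ⟨y, hy, rfl⟩
      have hy' := Subgroup.mem_centralizer_singleton_iff.1 hy
      show g * y * g⁻¹ * (g * a * g⁻¹) = g * a * g⁻¹ * (g * y * g⁻¹)
      calc g * y * g⁻¹ * (g * a * g⁻¹) = g * (y * a) * g⁻¹ := by group
        _ = g * (a * y) * g⁻¹ := by rw [hy']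
        _ = _ := by group
    · intro hx
      refine ⟨g⁻¹ * x * g, Subgroup.mem_centralizer_singleton_iff.2 ?_, ?_⟩
      · calc g⁻¹ * x * g * a = g⁻¹ * (x * (g * a * g⁻¹)) * g := by group
          _ = g⁻¹ * (g * a * g⁻¹ * x) * g := by rw [hx]
          _ = _ := by group
      · show g * (g⁻¹ * x * g) * g⁻¹ = x
        group
  exact ⟨((Subgroup.centralizer ({a} : Set G)).equivMapOfInjective (MulAut.conj g).toMonoidHom
    (MulAut.conj g).injective).trans (MulEquiv.subgroupCongr e)⟩

/-- an isomorphism maps centralizers to centralizers -/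
theorem centralizer_equiv {G : Type u} {H : Type v} [Group G] [Group H] (e : G ≃* H) (a : G) :
    Nonempty (↥(Subgroup.centralizer ({a} : Set G)) ≃* ↥(Subgroup.centralizer ({e a} : Set H))) := by
  have h : (Subgroup.centralizer ({a} : Set G)).map e.toMonoidHom = Subgroup.centralizer ({e a} : Set H) := by
    ext x
    rw [Subgroup.mem_centralizer_singleton_iff]
    constructor
    · rintro ⟨y, hy, rfl⟩
      have hy' := Subgroup.mem_centralizer_singleton_iff.1 hy
      show e y * e a = e a * e y
      rw [← map_mul, hy', map_mul]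
    · intro hx
      refine ⟨e.symm x, Subgroup.mem_centralizer_singleton_iff.2 ?_, e.apply_symm_apply x⟩
      apply e.injective
      rw [map_mul, map_mul, e.apply_symm_apply, hx]
  exact ⟨((Subgroup.centralizer ({a} : Set G)).equivMapOfInjective e.toMonoidHom e.injective).trans
    (MulEquiv.subgroupCongr h)⟩

/-- every involution of a finite group is conjugate into a given Sylow 2-subgroup -/
theorem exists_conj_mem {G : Type*} [Group G] [Finite G] (S : Sylow 2 G) {x : G} (hx : orderOf x = 2) :
    ∃ a : ↥(S : Subgroup G), orderOf a = 2 ∧ IsConj x (a : G) := by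
  have : Fact (Nat.Prime 2) := ⟨Nat.prime_two⟩
  have hp : IsPGroup 2 ↥(Subgroup.zpowers x) := by
    refine IsPGroup.of_card (n := 1) ?_
    rw [Nat.card_zpowers, hx, pow_one]
  obtain ⟨T, hT⟩ := hp.exists_le_sylow
  obtain ⟨g, hg⟩ := MulAction.exists_smul_eq G T S
  have h1 : g * x * g⁻¹ ∈ (S : Subgroup G) := by
    rw [← hg]
    have h2 : x ∈ (T : Subgroup G) := hT (Subgroup.mem_zpowers x)
    show g * x * g⁻¹ ∈ ((g • T : Sylow 2 G) : Subgroup G)
    rw [Sylow.coe_subgroup_smul]
    exact ⟨x, h2, rfl⟩
  refine ⟨⟨g * x * g⁻¹, h1⟩, ?_, isConj_iff.2 ⟨g, rfl⟩⟩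
  rw [← Subgroup.orderOf_coe]
  show orderOf (g * x * g⁻¹) = 2
  rw [← hx]
  exact MulAut.conj g |>.orderOf_eq x ▸ rfl

/-! ### centralizer patterns -/

theorem Pattern.symm {G : Type u} {H : Type v} [Group G] [Group H] (h : SameCentralizerInvolutionPattern G H) :
    SameCentralizerInvolutionPattern H G := by
  obtain ⟨S, T, φ, h1, h2⟩ := h
  have ho : ∀ b : ↥(T : Subgroup H), orderOf b = 2 → orderOf (φ.symm b) = 2 := fun b hb =>
    (φ.symm.orderOf_eq b).trans hb
  refine ⟨T, S, φ.symm, fun a b ha hb => ?_, fun a ha => ?_⟩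
  · have := h1 _ _ (ho a ha) (ho b hb)
    rw [φ.apply_symm_apply, φ.apply_symm_apply] at this
    exact this.symm
  · obtain ⟨e⟩ := h2 _ (ho a ha)
    rw [φ.apply_symm_apply] at e
    exact ⟨e.symm⟩

/-- `2 ^ k ∣ |G| ↔ 2 ^ k ∣ |H|` -/
theorem pow_dvd_iff_of_sylow {G : Type u} {H : Type v} [Group G] [Group H] [Finite G] [Finite H] {S : Sylow 2 G}
    {T : Sylow 2 H} (φ : ↥(S : Subgroup G) ≃* ↥(T : Subgroup H)) (k : ℕ) :
    2 ^ k ∣ Nat.card G ↔ 2 ^ k ∣ Nat.card H := by
  have : Fact (Nat.Prime 2) := ⟨Nat.prime_two⟩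
  have h1 : Nat.card ↥(S : Subgroup G) = Nat.card ↥(T : Subgroup H) := Nat.card_congr φ.toEquiv
  rw [S.card_eq_multiplicity, T.card_eq_multiplicity] at h1
  have h2 : (Nat.card G).factorization 2 = (Nat.card H).factorization 2 := Nat.pow_right_injective le_rfl h1
  rw [Nat.prime_two.pow_dvd_iff_le_factorization Nat.card_pos.ne',
    Nat.prime_two.pow_dvd_iff_le_factorization Nat.card_pos.ne', h2]

theorem Pattern.pow_dvd_iff {G : Type u} {H : Type v} [Group G] [Group H] [Finite G] [Finite H]
    (h : SameCentralizerInvolutionPattern G H) (k : ℕ) : 2 ^ k ∣ Nat.card G ↔ 2 ^ k ∣ Nat.card H := by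
  obtain ⟨S, T, φ, -, -⟩ := h
  exact pow_dvd_iff_of_sylow φ k

/-- every involution centralizer of `G` is isomorphic to one of `H` -/
theorem Pattern.exists_centralizer {G : Type u} {H : Type v} [Group G] [Group H] [Finite G]
    (h : SameCentralizerInvolutionPattern G H) {x : G} (hx : orderOf x = 2) :
    ∃ y : H, orderOf y = 2 ∧
      Nonempty (↥(Subgroup.centralizer ({x} : Set G)) ≃* ↥(Subgroup.centralizer ({y} : Set H))) := by
  obtain ⟨S, T, φ, -, h2⟩ := h
  obtain ⟨a, ha, hc⟩ := exists_conj_mem S hx
  obtain ⟨e⟩ := h2 a ha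
  obtain ⟨f⟩ := centralizer_congr hc
  refine ⟨(φ a : ↥(T : Subgroup H)), ?_, ⟨f.trans e⟩⟩
  rw [Subgroup.orderOf_coe]
  exact (φ.orderOf_eq a).trans ha

/-- the same, for an involution centralizer of `H` -/
theorem Pattern.exists_centralizer' {G : Type u} {H : Type v} [Group G] [Group H] [Finite H]
    (h : SameCentralizerInvolutionPattern G H) {y : H} (hy : orderOf y = 2) :
    ∃ x : G, orderOf x = 2 ∧
      Nonempty (↥(Subgroup.centralizer ({x} : Set G)) ≃* ↥(Subgroup.centralizer ({y} : Set H))) := by
  obtain ⟨x, hx, ⟨e⟩⟩ := Pattern.exists_centralizer (Pattern.symm h) hy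
  exact ⟨x, hx, ⟨e.symm⟩⟩

/-- if all involutions of `H` are conjugate, then so are all involutions of `G` -/
theorem Pattern.one_class {G : Type u} {H : Type v} [Group G] [Group H] [Finite G]
    (h : SameCentralizerInvolutionPattern G H) (hH : ∀ x y : H, orderOf x = 2 → orderOf y = 2 → IsConj x y)
    (x y : G) (hx : orderOf x = 2) (hy : orderOf y = 2) : IsConj x y := by
  obtain ⟨S, T, φ, h1, -⟩ := h
  obtain ⟨a, ha, hc⟩ := exists_conj_mem S hx
  obtain ⟨b, hb, hd⟩ := exists_conj_mem S hy
  have hfa : orderOf ((φ a : ↥(T : Subgroup H)) : H) = 2 := by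
    rw [Subgroup.orderOf_coe]; exact (φ.orderOf_eq a).trans ha
  have hfb : orderOf ((φ b : ↥(T : Subgroup H)) : H) = 2 := by
    rw [Subgroup.orderOf_coe]; exact (φ.orderOf_eq b).trans hb
  exact hc.trans (((h1 a b ha hb).2 (hH _ _ hfa hfb)).trans hd.symm)

/-- isomorphic groups have the same fusion pattern -/
theorem fusion_of_equiv {G : Type u} {H : Type v} [Group G] [Group H] [Finite G] (e : G ≃* H) :
    SameInvolutionFusionPattern G H := by
  have : Finite H := Finite.of_equiv G e.toEquiv
  have S : Sylow 2 G := default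
  have hs : Function.Surjective e.toMonoidHom := e.surjective
  refine ⟨S, S.mapSurjective hs, (S : Subgroup G).equivMapOfInjective e.toMonoidHom e.injective, fun a b _ _ => ?_⟩
  show IsConj (a : G) (b : G) ↔ IsConj (e a) (e b)
  constructor
  · intro h
    obtain ⟨g, hg⟩ := isConj_iff.1 h
    exact isConj_iff.2 ⟨e g, by rw [← map_mul, ← map_inv, ← map_mul, hg]⟩
  · intro h
    obtain ⟨g, hg⟩ := isConj_iff.1 h
    refine isConj_iff.2 ⟨e.symm g, e.injective ?_⟩
    rw [map_mul, map_mul, map_inv, e.apply_symm_apply, hg]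

end Cfsg.Agent.H992.Stages
end

-- part: H992/Stages/CentDvd
section
set_option linter.all false
open scoped Cfsg.Agent.FastGrp

/-!
# Divisors of the orders of involution centralizers, and a centralizer-of-involution pattern (helper992)

* `CentDvd n X` : `n` divides the order of an involution centralizer of `X`; `CentDvd.congr`, `CentDvd.pattern`, `.dvd`;
* `AllCT.pattern` : the property "all involution centralizers are of characteristic 2" transfers along a pattern.
-/

set_option autoImplicit false

namespace Cfsg.Agent.H992.Stages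

open Cfsg Subgroup

universe u v

/-- `n` divides the order of some involution centralizer of `X`. -/
def CentDvd (n : ℕ) (X : Type*) [Group X] : Prop :=
  ∃ x : X, orderOf x = 2 ∧ n ∣ Nat.card ↥(centralizer ({x} : Set X))

theorem CentDvd.congr {X : Type u} {Y : Type v} [Group X] [Group Y] {n : ℕ} (e : X ≃* Y) (h : CentDvd n X) :
    CentDvd n Y := by
  obtain ⟨x, hx, hn⟩ := h
  obtain ⟨f⟩ := centralizer_equiv e x
  exact ⟨e x, (e.orderOf_eq x).trans hx, by rwa [← Nat.card_congr f.toEquiv]⟩

theorem CentDvd.pattern {G : Type u} {H : Type v} [Group G] [Group H] [Finite H] {n : ℕ}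
    (hP : SameCentralizerInvolutionPattern G H) (h : CentDvd n H) : CentDvd n G := by
  obtain ⟨y, hy, hn⟩ := h
  obtain ⟨x, hx, ⟨f⟩⟩ := Pattern.exists_centralizer' hP hy
  exact ⟨x, hx, by rwa [Nat.card_congr f.toEquiv]⟩

theorem CentDvd.dvd {X : Type u} [Group X] {n : ℕ} (h : CentDvd n X) : n ∣ Nat.card X := by
  obtain ⟨x, -, hn⟩ := h
  exact hn.trans (Subgroup.card_subgroup_dvd_card _)

/-- `CentDvd` for a subgroup gives it for the group -/
theorem CentDvd.of_injective {X : Type u} {Y : Type v} [Group X] [Group Y] {n : ℕ} (f : X →* Y)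
    (hf : Function.Injective f) (h : CentDvd n X) : CentDvd n Y := by
  obtain ⟨x, hx, hn⟩ := h
  refine ⟨f x, (orderOf_injective f hf x).trans hx, hn.trans ?_⟩
  let g : ↥(centralizer ({x} : Set X)) →* ↥(centralizer ({f x} : Set Y)) :=
    (f.comp (centralizer ({x} : Set X)).subtype).codRestrict _ (fun c => mem_centralizer_singleton_iff.2 (by
      have := mem_centralizer_singleton_iff.1 c.2
      show f c * f x = f x * f c
      rw [← map_mul, this, map_mul]))
  exact Subgroup.card_dvd_of_injective g (fun a b hab => Subtype.ext (hf (congrArg Subtype.val hab)))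

/-- the centralizer of an involution of a group with a subgroup of order `n` centralizing it -/
theorem CentDvd.of_le {X : Type u} [Group X] {x : X} (hx : orderOf x = 2) {K : Subgroup X}
    (hK : K ≤ centralizer ({x} : Set X)) : CentDvd (Nat.card K) X := ⟨x, hx, Subgroup.card_dvd_of_le hK⟩

theorem AllCT.pattern {G : Type u} {H : Type v} [Group G] [Group H] [Finite G] [Finite H]
    (hP : SameCentralizerInvolutionPattern G H) (h : CpAut.AllCT G) : CpAut.AllCT H := by
  intro y hy
  obtain ⟨x, hx, ⟨f⟩⟩ := Pattern.exists_centralizer' hP hy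
  exact CpAut.TwoAbs.ct_congr f (h x hx)

end Cfsg.Agent.H992.Stages
end

-- part: H992/Stages/LFive
section
set_option linter.all false
open scoped Cfsg.Agent.FastGrp

/-!
# `L₅(2)`: no involution commutes with an element of order 5 (helper992)
-/

set_option autoImplicit false

namespace Cfsg.Agent.H992.Stages

open Cfsg Subgroup

/-- a map of order 5 acts trivially on an invariant subgroup of order dividing 8 -/
theorem fix_of_small {A : Type*} [AddCommGroup A] [Finite A] (f : A →+ A) (hf : ∀ a, f (f (f (f (f a)))) = a)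
    (B : AddSubgroup A) (hB : ∀ b ∈ B, f b ∈ B) (hc : Nat.card B ∣ 8) (b : A) (hb : b ∈ B) : f b = b := by
  classical
  have : Fact (Nat.Prime 5) := ⟨by norm_num⟩
  have hfin : Fintype B := Fintype.ofFinite _
  let F0 : AddSubgroup B :=
    { carrier := {x | f x = x}
      add_mem' := fun {x y} hx hy => by
        show f ((x : A) + y) = (x : A) + y
        rw [map_add]
        exact congrArg₂ (· + ·) hx hy
      zero_mem' := map_zero f
      neg_mem' := fun {x} hx => by
        show f (-(x : A)) = -(x : A)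
        rw [map_neg]
        exact congrArg (- ·) hx }
  let s : Function.End B := fun x => ⟨f x, hB x x.2⟩
  have hs : s ^ 5 ^ 1 = 1 := by
    funext x
    apply Subtype.ext
    rw [pow_one]
    exact hf x
  have h1 := Equiv.Perm.card_fixedPoints_modEq (p := 5) (n := 1) (f := s) hs
  have e : Fintype.card s.fixedPoints = Nat.card F0 := by
    rw [← Nat.card_eq_fintype_card]
    refine Nat.card_congr (Equiv.subtypeEquivRight fun x => ?_)
    show s x = x ↔ f x = x
    exact ⟨fun h => congrArg Subtype.val h, fun h => Subtype.ext h⟩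
  have hd : Nat.card F0 ∣ Nat.card B := AddSubgroup.card_addSubgroup_dvd_card F0
  rw [e, ← Nat.card_eq_fintype_card] at h1
  have h2 : Nat.card F0 = Nat.card B := by
    have h3 : Nat.card F0 ∣ 8 := hd.trans hc
    have h4 : ∀ a ∈ Nat.divisors 8, ∀ b ∈ Nat.divisors 8, a ≡ b [MOD 5] → b = a := by decide
    exact h4 _ (Nat.mem_divisors.2 ⟨hc, by norm_num⟩) _ (Nat.mem_divisors.2 ⟨h3, by norm_num⟩) h1
  have h3 : F0 = ⊤ := AddSubgroup.eq_top_of_card_eq F0 h2
  have h4 : (⟨b, hb⟩ : B) ∈ F0 := by rw [h3]; exact AddSubgroup.mem_top _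
  exact h4

section Lin

variable {F : Type*} [Field F] [Fintype F] {V : Type*} [AddCommGroup V] [Module F V] [Module.Finite F V] [Finite V]

theorem two_zero (hF : Fintype.card F = 2) (v : V) : v + v = 0 := by
  have h : ((2 : ℕ) : F) = 0 := by rw [← hF]; exact Nat.cast_card_eq_zero F
  rw [← two_smul F v]
  have h2 : (2 : F) = 0 := by exact_mod_cast h
  rw [h2, zero_smul]

/-- the linear algebra -/
theorem eq_one_of_comm (hF : Fintype.card F = 2) (hV : Module.finrank F V = 5) (t g : V →ₗ[F] V)
    (ht : ∀ v, t (t v) = v) (ht1 : ∃ v, t v ≠ v) (hg : ∀ v, g (g (g (g (g v)))) = v)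
    (hc : ∀ v, g (t v) = t (g v)) (v : V) : g v = v := by
  have h2 : ∀ v : V, v + v = 0 := two_zero hF
  have hn : ∀ v : V, -v = v := fun v => neg_eq_of_add_eq_zero_left (h2 v)
  let N : V →ₗ[F] V := t + LinearMap.id
  have hN : ∀ v, N v = t v + v := fun v => rfl
  have hNN : ∀ v, N (N v) = 0 := by
    intro v
    rw [hN, hN, map_add, ht]
    have := h2 (v + t v)
    rw [add_comm (t v) v]
    exact this
  have hNg : ∀ v, N (g v) = g (N v) := by
    intro v
    rw [hN, hN, map_add, hc]
  have hle : LinearMap.range N ≤ LinearMap.ker N := by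
    rintro _ ⟨v, rfl⟩
    exact hNN v
  have hrk := LinearMap.finrank_range_add_finrank_ker N
  have hle' := Submodule.finrank_mono hle
  have hpos : 0 < Module.finrank F (LinearMap.range N) := by
    rw [Module.finrank_pos_iff, Submodule.nontrivial_iff_ne_bot]
    intro h
    obtain ⟨v, hv⟩ := ht1
    apply hv
    have h3 : N v ∈ LinearMap.range N := ⟨v, rfl⟩
    rw [h, Submodule.mem_bot, hN] at h3
    rw [← sub_eq_zero, sub_eq_add_neg, hn]
    exact h3
  rw [hV] at hrk
  have hcard : ∀ W : Submodule F V, Nat.card W = 2 ^ Module.finrank F W := by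
    intro W
    have := Module.natCard_eq_pow_finrank (K := F) (V := W)
    rw [this, Nat.card_eq_fintype_card, hF]
  -- `g` is trivial on the range
  have s1 : ∀ v ∈ LinearMap.range N, g v = v := by
    intro v hv
    refine fix_of_small g.toAddMonoidHom hg (LinearMap.range N).toAddSubgroup ?_ ?_ v hv
    · rintro _ ⟨w, rfl⟩
      exact ⟨g w, hNg w⟩
    · have h3 : Nat.card (LinearMap.range N).toAddSubgroup = Nat.card (LinearMap.range N) := rfl
      rw [h3, hcard]
      exact pow_dvd_pow 2 (show _ ≤ 3 by omega)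
  -- `g v - v` is in the kernel
  have s2 : ∀ v, g v + v ∈ LinearMap.ker N := by
    intro v
    rw [LinearMap.mem_ker, map_add, hNg, s1 _ ⟨v, rfl⟩]
    exact h2 _
  -- `g` is trivial on the kernel modulo the range
  have s3 : ∀ v ∈ LinearMap.ker N, g v + v ∈ LinearMap.range N := by
    intro v hv
    have hgR : LinearMap.range N ≤ (LinearMap.range N).comap g := by
      rintro _ ⟨w, rfl⟩
      exact ⟨g w, hNg w⟩
    have hfq : Finite (V ⧸ LinearMap.range N) := Finite.of_surjective _ (LinearMap.range N).mkQ_surjective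
    let f := (LinearMap.range N).mapQ (LinearMap.range N) g hgR
    have hfm : ∀ w, f ((LinearMap.range N).mkQ w) = (LinearMap.range N).mkQ (g w) := fun w => rfl
    have h3 := fix_of_small f.toAddMonoidHom (fun a => by
        obtain ⟨w, rfl⟩ := (LinearMap.range N).mkQ_surjective a
        show f (f (f (f (f ((LinearMap.range N).mkQ w))))) = _
        rw [hfm, hfm, hfm, hfm, hfm, hg])
      ((LinearMap.ker N).map (LinearMap.range N).mkQ).toAddSubgroup (by
        rintro _ ⟨w, hw, rfl⟩
        refine ⟨g w, ?_, rfl⟩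
        have hw' : N w = 0 := hw
        show N (g w) = 0
        rw [hNg, hw', map_zero]) (by
        have h4 : Nat.card ((LinearMap.ker N).map (LinearMap.range N).mkQ).toAddSubgroup =
            Nat.card ((LinearMap.ker N).map (LinearMap.range N).mkQ) := rfl
        have h5 := Module.natCard_eq_pow_finrank (K := F) (V := (LinearMap.ker N).map (LinearMap.range N).mkQ)
        have h6 := LinearMap.finrank_range_add_finrank_ker ((LinearMap.range N).mkQ.domRestrict (LinearMap.ker N))
        rw [LinearMap.range_domRestrict, LinearMap.ker_domRestrict, Submodule.ker_mkQ,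
          (Submodule.comapSubtypeEquivOfLe hle).finrank_eq] at h6
        rw [h4, h5, Nat.card_eq_fintype_card, hF]
        exact pow_dvd_pow 2 (show _ ≤ 3 by omega)) _ ⟨v, hv, rfl⟩
    have h7 : (LinearMap.range N).mkQ (g v) = (LinearMap.range N).mkQ v := h3
    have h8 : (LinearMap.range N).mkQ (g v + v) = 0 := by
      rw [map_add, h7, ← map_add, h2, map_zero]
    rwa [Submodule.mkQ_apply, Submodule.Quotient.mk_eq_zero] at h8
  -- `(g - 1)³ = 0`
  have s4 : ∀ v, g (g (g v)) + g (g v) + g v + v = 0 := by
    intro v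
    have h3 := s1 _ (s3 _ (s2 v))
    simp only [map_add] at h3
    -- `ggg + gg + gg + g = gg + g + g + 1`
    have e1 : g (g (g v)) + g (g v) + (g (g v) + g v) = g (g (g v)) + g v := by
      rw [add_assoc, ← add_assoc (g (g v)) (g (g v)) (g v), h2, zero_add]
    have e2 : g (g v) + g v + (g v + v) = g (g v) + v := by
      rw [add_assoc, ← add_assoc (g v) (g v) v, h2, zero_add]
    rw [e1, e2] at h3
    have h4 : g (g (g v)) + g (g v) + g v + v = (g (g (g v)) + g v) + (g (g v) + v) := by abel
    rw [h4, h3, h2]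
  have s5 : g (g (g (g v))) = v := by
    have h3 := s4 v
    have h4 := s4 (g v)
    -- subtract
    have h5 : g (g (g (g v))) + (g (g (g v)) + g (g v) + g v) = 0 := by
      rw [← h4]; abel
    have h6 : g (g (g v)) + g (g v) + g v = v := by
      rw [← sub_eq_zero, sub_eq_add_neg, hn]; exact h3
    rw [h6] at h5
    rw [← sub_eq_zero, sub_eq_add_neg, hn]; exact h5
  have h9 := hg v
  rw [s5] at h9
  exact h9

end Lin

open Matrix in
/-- **`L₅(2)`**: no involution commutes with an element of order 5. -/
theorem lfive {F : Type*} [Field F] [Fintype F] (hF : Fintype.card F = 2) :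
    ¬ CentDvd 5 (Matrix.ProjectiveSpecialLinearGroup (Fin 5) F) := by
  classical
  rintro ⟨x, hx, h5⟩
  have : Fact (Nat.Prime 5) := ⟨by norm_num⟩
  have hcen : ∀ Z : Matrix.SpecialLinearGroup (Fin 5) F, Z ∈ center (Matrix.SpecialLinearGroup (Fin 5) F) → Z = 1 := by
    intro Z hZ
    obtain ⟨r, hr, hr2⟩ := Matrix.SpecialLinearGroup.mem_center_iff.1 hZ
    have h0 : r ≠ 0 := by
      rintro rfl
      rw [zero_pow (by simp)] at hr
      exact zero_ne_one hr
    have h1 : r ^ (Fintype.card F - 1) = 1 := FiniteField.pow_card_sub_one_eq_one r h0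
    rw [hF] at h1
    have h2 : r = 1 := by simpa using h1
    apply Subtype.ext
    rw [← hr2, h2]
    simp
  have hfin : Finite (Matrix.ProjectiveSpecialLinearGroup (Fin 5) F) := Quotient.finite _
  obtain ⟨⟨y, hy⟩, hy5⟩ := exists_prime_orderOf_dvd_card' 5 h5
  rw [Subgroup.orderOf_mk] at hy5
  rw [mem_centralizer_singleton_iff] at hy
  obtain ⟨X, rfl⟩ := QuotientGroup.mk_surjective x
  obtain ⟨Y, rfl⟩ := QuotientGroup.mk_surjective y
  have key : ∀ A B : Matrix.SpecialLinearGroup (Fin 5) F,
      (QuotientGroup.mk A : Matrix.ProjectiveSpecialLinearGroup (Fin 5) F) = QuotientGroup.mk B → A = B := by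
    intro A B h
    have h2 := QuotientGroup.eq.1 h
    exact inv_mul_eq_one.1 (hcen _ h2)
  have hX2 : X * X = 1 := key _ _ (by
    have := pow_orderOf_eq_one (QuotientGroup.mk X : Matrix.ProjectiveSpecialLinearGroup (Fin 5) F)
    rw [hx, pow_two] at this
    exact this)
  have hX1 : X ≠ 1 := by
    rintro rfl
    rw [show ((1 : Matrix.SpecialLinearGroup (Fin 5) F) : Matrix.ProjectiveSpecialLinearGroup (Fin 5) F) = 1 from rfl,
      orderOf_one] at hx
    omega
  have hY5 : Y ^ 5 = 1 := key _ _ (by
    have := pow_orderOf_eq_one (QuotientGroup.mk Y : Matrix.ProjectiveSpecialLinearGroup (Fin 5) F)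
    rw [hy5] at this
    exact this)
  have hXY : Y * X = X * Y := key _ _ hy
  have hmul : ∀ (A B : Matrix.SpecialLinearGroup (Fin 5) F) (v : Fin 5 → F),
      Matrix.mulVecLin (A : Matrix (Fin 5) (Fin 5) F) (Matrix.mulVecLin (B : Matrix (Fin 5) (Fin 5) F) v) =
        Matrix.mulVecLin ((A * B : Matrix.SpecialLinearGroup (Fin 5) F) : Matrix (Fin 5) (Fin 5) F) v := by
    intro A B v
    rw [Matrix.SpecialLinearGroup.coe_mul, Matrix.mulVecLin_mul]
    rfl
  have hone : ∀ v : Fin 5 → F,
      Matrix.mulVecLin ((1 : Matrix.SpecialLinearGroup (Fin 5) F) : Matrix (Fin 5) (Fin 5) F) v = v := by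
    intro v
    rw [Matrix.SpecialLinearGroup.coe_one, Matrix.mulVecLin_one]
    rfl
  have h := eq_one_of_comm (V := Fin 5 → F) hF (by simp) (Matrix.mulVecLin (X : Matrix (Fin 5) (Fin 5) F))
    (Matrix.mulVecLin (Y : Matrix (Fin 5) (Fin 5) F)) (fun v => by rw [hmul, hX2, hone]) (by
      by_contra hcon
      push Not at hcon
      apply hX1
      apply Subtype.ext
      have h1 : Matrix.mulVecLin (X : Matrix (Fin 5) (Fin 5) F) = Matrix.mulVecLin 1 := by
        rw [Matrix.mulVecLin_one]
        exact LinearMap.ext hcon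
      exact Matrix.mulVec_injective (by
        funext v
        exact LinearMap.congr_fun h1 v)) (fun v => by
      have e' : Y * Y * Y * Y * Y = 1 := by rw [← hY5]; simp only [pow_succ, pow_zero, one_mul]
      rw [hmul, hmul, hmul, hmul, e', hone]) (fun v => by rw [hmul, hmul, hXY])
  have hY1 : Y = 1 := by
    apply Subtype.ext
    have h1 : Matrix.mulVecLin (Y : Matrix (Fin 5) (Fin 5) F) = Matrix.mulVecLin 1 := by
      rw [Matrix.mulVecLin_one]
      exact LinearMap.ext h
    exact Matrix.mulVec_injective (by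
      funext v
      exact LinearMap.congr_fun h1 v)
  rw [hY1] at hy5
  rw [show ((1 : Matrix.SpecialLinearGroup (Fin 5) F) : Matrix.ProjectiveSpecialLinearGroup (Fin 5) F) = 1 from rfl,
    orderOf_one] at hy5
  omega

end Cfsg.Agent.H992.Stages
end
end
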